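import Groth.Agent.PicAff27.Spread

/-!
# Invertible modules on affine space over a reduced scheme with trivial Picard groups
-/

set_option autoImplicit false
set_option backward.isDefEq.respectTransparency.types false

universe u

open CategoryTheory CategoryTheory.Limits AlgebraicGeometry Opposite TopologicalSpace
open Groth.Agent.Coherent Groth.Agent.PicLib Groth.Agent.AmpleLib

noncomputable section

namespace Groth.Agent.PicAff27

variable {n : Type u} {X : Scheme.{u}}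

/-- The preimage of an open under the projection, pulled back along the zero section. -/
theorem zeroSection_preimage (O : X.Opens) :
    GaGmQuot.zeroSection n X ⁻¹ᵁ ((𝔸(n; X) ↘ X) ⁻¹ᵁ O) = O := by
  rw [← Scheme.Hom.comp_preimage, GaGmQuot.zeroSection_over, Scheme.Hom.id_preimage]

theorem app_of_eq_id {h : X ⟶ X} (hh : h = 𝟙 X) (U : X.Opens) (e : U = h ⁻¹ᵁ U) (r : Γ(X, h ⁻¹ᵁ U)) :
    h.app U (X.presheaf.map (eqToHom e).op r) = r := by
  subst hh
  exact ConcreteCategory.congr_hom (X.presheaf.map_id _) r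

/-- An invertible function over the preimage of an open of a reduced scheme is determined by its
restriction to the zero section. -/
theorem eq_one_of_zeroSection [IsReduced X] (O : X.Opens) (w : Γ(𝔸(n; X), (𝔸(n; X) ↘ X) ⁻¹ᵁ O))
    (hw : IsUnit w) (h1 : (GaGmQuot.zeroSection n X).app _ w = 1) : w = 1 := by
  let j := AffineSpace.map n O.ι
  have hsq := AffineSpace.isPullback_map (n := n) O.ι
  haveI : IsOpenImmersion j := MorphismProperty.of_isPullback hsq.flip (inferInstance : IsOpenImmersion O.ι)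
  haveI : IsReduced O.toScheme := isReduced_of_isOpenImmersion O.ι
  have hle : (⊤ : (𝔸(n; O.toScheme)).Opens) ≤ j ⁻¹ᵁ ((𝔸(n; X) ↘ X) ⁻¹ᵁ O) := fun z _ => by
    show (j ≫ 𝔸(n; X) ↘ X) z ∈ O
    rw [AffineSpace.map_over]
    exact O.ι_apply _ ▸ ((𝔸(n; O.toScheme) ↘ O.toScheme) z).2
  have hleO : (⊤ : O.toScheme.Opens) ≤ O.ι ⁻¹ᵁ O := fun z _ => z.2
  let w' := j.appLE _ ⊤ hle w
  have hz : (GaGmQuot.zeroSection n O.toScheme).appTop w' = 1 := by
    rw [show (GaGmQuot.zeroSection n O.toScheme).appTop =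
      (GaGmQuot.zeroSection n O.toScheme).appLE ⊤ ⊤ le_rfl from
      (Scheme.Hom.appLE_eq_app (GaGmQuot.zeroSection n O.toScheme) (U := ⊤)).symm, appLE_comp_apply,
      appLE_congr_hom (GaGmQuot.zeroSection_map O.ι)]
    rw [← appLE_comp_apply O.ι (GaGmQuot.zeroSection n X) le_rfl
      (show ⊤ ≤ O.ι ⁻¹ᵁ _ from hleO.trans ((Opens.map O.ι.base).map (homOfLE (zeroSection_preimage O).ge)).le),
      Scheme.Hom.appLE_eq_app, h1, map_one]
  have hw' : w' = 1 := by
    rw [← GaGmQuot.eq_of_isUnit O.toScheme w' (hw.map _), hz, map_one]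
  have hinj : Function.Injective (j.appLE _ ⊤ hle) := by
    have hr : ((𝔸(n; X) ↘ X) ⁻¹ᵁ O) ≤ j.opensRange := by
      intro v hv
      obtain ⟨w, hw, -⟩ := Scheme.Pullback.exists_preimage_pullback (f := 𝔸(n; X) ↘ X) (g := O.ι) v
        ⟨_, hv⟩ rfl
      refine ⟨hsq.isoPullback.inv w, ?_⟩
      rw [← hw]
      exact congrArg (fun f : _ ⟶ 𝔸(n; X) => f w) hsq.isoPullback_inv_fst
    haveI := j.isIso_app _ hr
    have e : j.appLE _ ⊤ hle = j.app _ ≫ (𝔸(n; O.toScheme)).presheaf.map (homOfLE hle).op := rfl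
    haveI : IsIso ((𝔸(n; O.toScheme)).presheaf.map (homOfLE hle).op) := by
      have h2 : j ⁻¹ᵁ ((𝔸(n; X) ↘ X) ⁻¹ᵁ O) = ⊤ := top_le_iff.1 hle
      rw [show homOfLE hle = eqToHom h2.symm from rfl]
      infer_instance
    haveI : IsIso (j.appLE _ ⊤ hle) := e ▸ inferInstance
    exact (ConcreteCategory.bijective_of_isIso (j.appLE _ ⊤ hle)).1
  exact hinj (hw'.trans (map_one _).symm)

/-- Invertible modules on `𝔸(n; X)` are trivial when they are so on `X` and on the local affine spaces. -/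
theorem nonempty_iso [IsReduced X]
    (hX : ∀ L : X.Modules, PicF.IsInvertible L → Nonempty (L ≅ Coh.structureModule X))
    {L : 𝔸(n; X).Modules} (hL : PicF.IsInvertible L)
    (hloc : ∀ x : X, Nonempty ((Scheme.Modules.pullback (AffineSpace.map n (X.fromSpecStalk x))).obj L ≅
      Coh.structureModule 𝔸(n; Spec (X.presheaf.stalk x)))) :
    Nonempty (L ≅ Coh.structureModule 𝔸(n; X)) := by
  let π := 𝔸(n; X) ↘ X
  let σ := GaGmQuot.zeroSection n X
  obtain ⟨e⟩ := hX _ (PicLoc.isInvertible_pullback σ hL)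
  let N := (Scheme.Modules.pullback σ).obj L
  let s : Γ(N, ⊤) := unitVal e.inv ⊤
  have hs : IsGen N ⊤ s := AbCubeLib.isGen_unitVal_of_isIso e.inv
  have hlocal : ∀ x : X, ∃ U : X.Opens, x ∈ U ∧ ∃ t : Γ(L, π ⁻¹ᵁ U), IsGen L _ t ∧
      pullSec σ t = resM N le_top s := by
    intro x
    obtain ⟨U, hxU, g, hg⟩ := exists_gen_nhd hL x (hloc x)
    refine ⟨U, hxU, ?_⟩
    have hgs := isGen_pullSec σ hg hL
    obtain ⟨c, hc⟩ := hgs.isUnit_coef (hs.restrict (le_top : σ ⁻¹ᵁ (π ⁻¹ᵁ U) ≤ ⊤))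
    have hcs := hgs.coef_spec le_rfl (resM N (le_top : σ ⁻¹ᵁ (π ⁻¹ᵁ U) ≤ ⊤) s)
    rw [resM_self, ← hc] at hcs
    let c' : Γ(X, U) := X.presheaf.map (eqToHom (zeroSection_preimage (n := n) U).symm).op (c : Γ(X, σ ⁻¹ᵁ (π ⁻¹ᵁ U)))
    have hσ : σ.app (π ⁻¹ᵁ U) (π.app U c') = c := by
      rw [← CommRingCat.comp_apply, ← Scheme.Hom.comp_app]
      exact app_of_eq_id (GaGmQuot.zeroSection_over (n := n) X) U (zeroSection_preimage (n := n) U).symm _
    have hcu : IsUnit (π.app U c') := (c.isUnit.map _).map _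
    obtain ⟨cu, hcu'⟩ := hcu
    refine ⟨π.app U c' • g, hcu' ▸ hg.smul_unit cu, ?_⟩
    rw [pullSec_smul, hσ, hcs]
  choose U hxU t ht hts using hlocal
  have hcov : (⊤ : 𝔸(n; X).Opens) ≤ ⨆ x : ULift.{u} X, π ⁻¹ᵁ U x.down := fun v _ =>
    Opens.mem_iSup.2 ⟨⟨π v⟩, hxU (π v)⟩
  have hag : ∀ i j : ULift.{u} X, resM L (inf_le_left : π ⁻¹ᵁ U i.down ⊓ π ⁻¹ᵁ U j.down ≤ _) (t i.down) =
      resM L (inf_le_right : π ⁻¹ᵁ U i.down ⊓ π ⁻¹ᵁ U j.down ≤ _) (t j.down) := fun i j => by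
    let O := U i.down ⊓ U j.down
    let hi : π ⁻¹ᵁ O ≤ π ⁻¹ᵁ U i.down := ((Opens.map π.base).map (homOfLE inf_le_left)).le
    let hj : π ⁻¹ᵁ O ≤ π ⁻¹ᵁ U j.down := ((Opens.map π.base).map (homOfLE inf_le_right)).le
    show resM L hi (t i.down) = resM L hj (t j.down)
    have gi := (ht i.down).restrict hi
    have gj := (ht j.down).restrict hj
    have hwu := gi.isUnit_coef gj
    have hr := gi.coef_spec le_rfl (resM L hj (t j.down))
    generalize gi.coef le_rfl (resM L hj (t j.down)) = w at hr hwu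
    rw [resM_self] at hr
    have gs := isGen_pullSec σ gi hL
    have e1 : σ.app (π ⁻¹ᵁ O) w • pullSec σ (resM L hi (t i.down)) = pullSec σ (resM L hi (t i.down)) := by
      rw [← pullSec_smul, hr, ← resM_pullSec σ hj, ← resM_pullSec σ hi, hts, hts, resM_resM, resM_resM]
    have e2 : σ.app (π ⁻¹ᵁ O) w = 1 := by
      have hinj := (gs _ le_rfl).1
      simp only [resM_self] at hinj
      exact hinj (e1.trans (one_smul _ _).symm)
    rw [← hr, eq_one_of_zeroSection O w hwu e2, one_smul]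
  obtain ⟨τ, hτ, -⟩ := TopCat.Sheaf.existsUnique_gluing' (⟨L.presheaf, L.isSheaf⟩ : TopCat.Sheaf Ab 𝔸(n; X))
    (fun x : ULift.{u} X => π ⁻¹ᵁ U x.down) ⊤ (fun i => homOfLE le_top) hcov (fun x => t x.down)
    (fun i j => hag i j)
  have hgen : IsGen L ⊤ τ := isGen_of_cover (fun x : ULift.{u} X => π ⁻¹ᵁ U x.down) (fun _ => le_top) hcov
    fun x => by
      rw [show resM L (le_top : π ⁻¹ᵁ U x.down ≤ ⊤) τ = t x.down from hτ x]
      exact ht x.down
  haveI := isIso_of_isGen (unitDesc L τ) (by rw [unitVal_unitDesc, resM_self]; exact hgen)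
  exact ⟨(asIso (unitDesc L τ)).symm⟩

end Groth.Agent.PicAff27
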