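import Groth.Agent.GaGmQuot.AffineUnits
import Groth.Agent.AmpleLib.Ample
import Groth.Agent.Coherent.QcohSections
import Groth.Agent.PicLib.PullbackGen
import Groth.Agent.AbCubeLib.PullKernel

/-!
# Generators of invertible modules on affine space over a scheme spread out from local rings

If the pullback of an invertible module on `𝔸(n; X)` to `𝔸(n; Spec O_x)` is trivial then the module has
a generator over the preimage of an open neighbourhood of `x`.
-/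

set_option autoImplicit false
set_option backward.isDefEq.respectTransparency.types false

universe u

open CategoryTheory CategoryTheory.Limits AlgebraicGeometry Opposite TopologicalSpace
open Groth.Agent.Coherent Groth.Agent.PicLib Groth.Agent.AmpleLib

noncomputable section

namespace Groth.Agent.PicAff27

/-- Functions on a composite, evaluated in steps. -/
theorem appLE_comp_apply {X Y Z : Scheme.{u}} (f : X ⟶ Y) (g : Y ⟶ Z) {U : Z.Opens} {V : Y.Opens} {W : X.Opens}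
    (e₁ : V ≤ g ⁻¹ᵁ U) (e₂ : W ≤ f ⁻¹ᵁ V) (r : Γ(Z, U)) :
    f.appLE V W e₂ (g.appLE U V e₁ r) = (f ≫ g).appLE U W (e₂.trans ((Opens.map f.base).map (homOfLE e₁)).le) r := by
  rw [← CommRingCat.comp_apply, Scheme.Hom.appLE_comp_appLE]

theorem appLE_congr_hom {X Z : Scheme.{u}} {f g : X ⟶ Z} (h : f = g) {U : Z.Opens} {W : X.Opens}
    (e : W ≤ f ⁻¹ᵁ U) (r : Γ(Z, U)) : f.appLE U W e r = g.appLE U W (h ▸ e) r := by
  subst h; rfl

variable {n : Type u} {X : Scheme.{u}}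

/-- Every function on `𝔸(n; Spec O_x)` becomes, after multiplying by a unit from an affine neighbourhood,
a function on the preimage of that neighbourhood. -/
theorem exists_fraction {x : X} {U₀ : X.Opens} (hU₀ : IsAffineOpen U₀) (hx : x ∈ U₀)
    (e : ⊤ ≤ AffineSpace.map n (X.fromSpecStalk x) ⁻¹ᵁ ((𝔸(n; X) ↘ X) ⁻¹ᵁ U₀))
    (b : Γ(𝔸(n; Spec (X.presheaf.stalk x)), ⊤)) :
    ∃ (r : Γ(X, U₀)) (a : Γ(𝔸(n; X), (𝔸(n; X) ↘ X) ⁻¹ᵁ U₀)), IsUnit (X.presheaf.germ U₀ x hx r) ∧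
      b * (AffineSpace.map n (X.fromSpecStalk x)).appLE _ ⊤ e ((𝔸(n; X) ↘ X).app U₀ r) =
        (AffineSpace.map n (X.fromSpecStalk x)).appLE _ ⊤ e a := by
  set m := AffineSpace.map n (X.fromSpecStalk x) with hm
  let O := X.presheaf.stalk x
  let π := 𝔸(n; X) ↘ X
  let π' := 𝔸(n; Spec O) ↘ Spec O
  let φ := m.appLE (π ⁻¹ᵁ U₀) ⊤ e
  let ψ : O →+* Γ(𝔸(n; Spec O), ⊤) := ((Scheme.ΓSpecIso O).inv ≫ π'.appTop).hom
  have hcomp : ∀ r : Γ(X, U₀), φ (π.app U₀ r) = ψ (X.presheaf.germ U₀ x hx r) := fun r => by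
    have e2 : π'.appTop = π'.appLE ⊤ ⊤ le_rfl := (Scheme.Hom.appLE_eq_app π' (U := ⊤)).symm
    have e3 : (⊤ : (Spec O).Opens) ≤ X.fromSpecStalk x ⁻¹ᵁ U₀ := by
      intro z _
      exact ((X.range_fromSpecStalk (x := x)).le ⟨z, rfl⟩).mem_open U₀.2 hx
    have e4 : X.presheaf.germ U₀ x hx ≫ (Scheme.ΓSpecIso O).inv = (X.fromSpecStalk x).appLE U₀ ⊤ e3 := by
      rw [Scheme.Hom.appLE, Scheme.fromSpecStalk_app hx, Category.assoc, Category.assoc, ← Functor.map_comp]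
      conv_lhs => rw [← Category.comp_id (Scheme.ΓSpecIso O).inv, ← CategoryTheory.Functor.map_id]
      rfl
    show φ (π.app U₀ r) = π'.appTop ((X.presheaf.germ U₀ x hx ≫ (Scheme.ΓSpecIso O).inv) r)
    rw [e4, e2, appLE_comp_apply, π.app_eq_appLE, appLE_comp_apply]
    exact appLE_congr_hom (AffineSpace.map_over (X.fromSpecStalk x)) _ r
  have hcoord : ∀ i, φ (𝔸(n; X).presheaf.map (homOfLE (le_top : π ⁻¹ᵁ U₀ ≤ ⊤)).op (AffineSpace.coord X i)) =
      AffineSpace.coord (Spec O) i := fun i => by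
    refine Eq.trans ?_ (AffineSpace.map_appTop_coord (X.fromSpecStalk x) i)
    rw [← CommRingCat.comp_apply, Scheme.Hom.map_appLE]
    rw [← hm]
    show m.appLE ⊤ (m ⁻¹ᵁ ⊤) _ _ = _
    rw [Scheme.Hom.appLE_eq_app]
    rfl
  have hb : ∃ q : MvPolynomial n O, MvPolynomial.eval₂Hom ψ (AffineSpace.coord (Spec O)) q = b := by
    haveI : IsIso (AffineSpace.SpecIso n O).hom.appTop :=
      inferInstanceAs (IsIso ((AffineSpace.SpecIso n O).hom.app ⊤))
    have hs := (ConcreteCategory.bijective_of_isIso (AffineSpace.SpecIso n O).hom.appTop).2 b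
    obtain ⟨z, hz⟩ := hs
    refine ⟨(Scheme.ΓSpecIso _).hom z, ?_⟩
    rw [← hz, AffineSpace.SpecIso_hom_appTop]
    rfl
  obtain ⟨q, rfl⟩ := hb
  suffices h : ∀ q : MvPolynomial n O, ∃ (r : Γ(X, U₀)) (a : Γ(𝔸(n; X), π ⁻¹ᵁ U₀)),
      IsUnit (X.presheaf.germ U₀ x hx r) ∧
        MvPolynomial.eval₂Hom ψ (AffineSpace.coord (Spec O)) q * φ (π.app U₀ r) = φ a from h q
  intro q
  induction q using MvPolynomial.induction_on with
  | C c =>
    letI : Algebra Γ(X, U₀) O := (X.presheaf.germ U₀ x hx).hom.toAlgebra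
    haveI := hU₀.isLocalization_stalk ⟨x, hx⟩
    obtain ⟨⟨a, r⟩, hr⟩ := IsLocalization.surj (hU₀.primeIdealOf ⟨x, hx⟩).asIdeal.primeCompl c
    refine ⟨r.1, π.app U₀ a, IsLocalization.map_units O r, ?_⟩
    rw [hcomp, hcomp, MvPolynomial.eval₂Hom_C, ← map_mul]
    exact congrArg ψ hr
  | add q₁ q₂ h₁ h₂ =>
    obtain ⟨r₁, a₁, u₁, e₁⟩ := h₁
    obtain ⟨r₂, a₂, u₂, e₂⟩ := h₂
    refine ⟨r₁ * r₂, a₁ * π.app U₀ r₂ + a₂ * π.app U₀ r₁, by rw [map_mul]; exact u₁.mul u₂, ?_⟩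
    simp only [map_add, map_mul, ← e₁, ← e₂]
    ring
  | mul_X q i h =>
    obtain ⟨r, a, u, e⟩ := h
    refine ⟨r, a * 𝔸(n; X).presheaf.map (homOfLE (le_top : π ⁻¹ᵁ U₀ ≤ ⊤)).op (AffineSpace.coord X i), u, ?_⟩
    rw [map_mul, map_mul, MvPolynomial.eval₂Hom_X', hcoord, mul_right_comm, e]

/-- An invertible module on an affine open is generated by its sections. -/
theorem exists_gen_section {Y : Scheme.{u}} {L : Y.Modules} (hL : PicF.IsInvertible L) {V : Y.Opens}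
    (hV : IsAffineOpen V) {v : Y} (hv : v ∈ V) :
    ∃ (g : Γ(L, V)) (O : Y.Opens) (h : O ≤ V), v ∈ O ∧ IsGen L O (resM L h g) := by
  haveI := isQCoh_of_isInvertible hL
  obtain ⟨W, hvW, s, hs⟩ := exists_isGen hL v
  obtain ⟨f, hfW, hvf⟩ := hV.exists_basicOpen_le (V := W ⊓ V) ⟨v, hvW, hv⟩ hv
  obtain ⟨N, t, ht⟩ := qcoh_exists_pow_smul hV L f (resM L (hfW.trans inf_le_left) s)
  refine ⟨t, Y.basicOpen f, Y.basicOpen_le f, hvf, ?_⟩
  rw [ht, map_pow]
  obtain ⟨w, hw'⟩ : IsUnit ((Y.presheaf.map (homOfLE (Y.basicOpen_le f)).op f : Γ(Y, Y.basicOpen f)) ^ N) :=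
    (RingedSpace.isUnit_res_basicOpen Y.toRingedSpace f).pow N
  rw [← hw']
  exact (hs.restrict (hfW.trans inf_le_left)).smul_unit w

/-- **Spreading out a generator.** -/
theorem exists_gen_nhd {L : 𝔸(n; X).Modules} (hL : PicF.IsInvertible L) (x : X)
    (e : Nonempty ((Scheme.Modules.pullback (AffineSpace.map n (X.fromSpecStalk x))).obj L ≅
      Coh.structureModule 𝔸(n; Spec (X.presheaf.stalk x)))) :
    ∃ U : X.Opens, x ∈ U ∧ ∃ g : Γ(L, (𝔸(n; X) ↘ X) ⁻¹ᵁ U), IsGen L _ g := by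
  classical
  obtain ⟨e⟩ := e
  obtain ⟨U₀, hU₀, hx, -⟩ := exists_isAffineOpen_mem_and_subset (x := x) (U := ⊤) trivial
  let π := 𝔸(n; X) ↘ X
  let V : 𝔸(n; X).Opens := π ⁻¹ᵁ U₀
  have hV : IsAffineOpen V := hU₀.preimage π
  let O := X.presheaf.stalk x
  let P := 𝔸(n; Spec O)
  let m : P ⟶ 𝔸(n; X) := AffineSpace.map n (X.fromSpecStalk x)
  have hmπ : ∀ z : P, π (m z) ⤳ x := fun z => by
    have h1 : π (m z) = X.fromSpecStalk x ((P ↘ Spec O) z) :=
      congrArg (fun g : P ⟶ X => g z) (AffineSpace.map_over (X.fromSpecStalk x))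
    exact (X.range_fromSpecStalk (x := x)).le ⟨_, h1.symm⟩
  have hm : (⊤ : P.Opens) ≤ m ⁻¹ᵁ V := fun z _ => (hmπ z).mem_open U₀.2 hx
  let M := (Scheme.Modules.pullback m).obj L
  let h : Γ(M, ⊤) := unitVal e.inv ⊤
  have hh : IsGen M ⊤ h := AbCubeLib.isGen_unitVal_of_isIso e.inv
  have hc : ∀ g : Γ(L, V), ∃ c : Γ(P, ⊤), c • h = resM M hm (pullSec m g) := fun g => by
    have := (hh ⊤ le_rfl).2 (resM M hm (pullSec m g))
    simpa only [resM_self] using this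
  choose c hc using hc
  have hspan : Ideal.span (Set.range c) = ⊤ := by
    refine ((isAffineOpen_top P).iSup_basicOpen_eq_self_iff).1 (top_le_iff.1 fun z _ => ?_)
    have hzV : m z ∈ V := hm (trivial : z ∈ (⊤ : P.Opens))
    obtain ⟨g, O', hO', hzO, hgen⟩ := exists_gen_section hL hV hzV
    refine Opens.mem_iSup.2 ⟨⟨c g, g, rfl⟩, ?_⟩
    have hp := isGen_pullSec m hgen hL
    have hu : IsUnit ((hh.restrict (le_top : m ⁻¹ᵁ O' ≤ ⊤)).coef le_rfl (pullSec m (resM L hO' g))) :=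
      (hh.restrict (le_top : m ⁻¹ᵁ O' ≤ ⊤)).isUnit_coef hp
    have hce : (hh.restrict (le_top : m ⁻¹ᵁ O' ≤ ⊤)).coef le_rfl (pullSec m (resM L hO' g)) =
        res (le_top : m ⁻¹ᵁ O' ≤ ⊤) (c g) := by
      refine IsGen.coef_eq _ _ ?_
      rw [resM_self, ← resM_smul, hc, resM_resM, ← resM_pullSec m hO']
    rw [hce] at hu
    rw [Scheme.mem_basicOpen P (c g) z (TopologicalSpace.Opens.mem_top z)]
    have hz' : z ∈ m ⁻¹ᵁ O' := hzO
    rw [← TopCat.Presheaf.germ_res_apply P.presheaf (homOfLE (le_top : m ⁻¹ᵁ O' ≤ ⊤)) z hz']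
    exact hu.map _
  obtain ⟨l, hl⟩ := (Finsupp.mem_span_range_iff_exists_finsupp (R := Γ(P, ⊤))).1
    (show (1 : Γ(P, ⊤)) ∈ Ideal.span (Set.range c) by rw [hspan]; exact Submodule.mem_top)
  choose r a hr hra using fun i : Γ(L, V) => exists_fraction hU₀ hx hm (l i)
  let R := ∏ i ∈ l.support, r i
  let A : Γ(L, V) → Γ(𝔸(n; X), V) := fun i => a i * π.app U₀ (∏ j ∈ l.support.erase i, r j)
  let φ := m.appLE V ⊤ hm
  have hA : ∀ i ∈ l.support, l i * φ (π.app U₀ R) = φ (A i) := fun i hi => by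
    simp only [A, R, ← Finset.mul_prod_erase _ _ hi, map_mul, ← mul_assoc]
    rw [hra i]
  let g : Γ(L, V) := ∑ i ∈ l.support, A i • i
  have hres : ∀ (b : Γ(𝔸(n; X), V)) (i : Γ(L, V)),
      resM M hm (pullSec m (b • i)) = φ b • resM M hm (pullSec m i) := fun b i => by
    rw [pullSec_smul, resM_smul]
    rfl
  have hadd : resM M hm (pullSec m g) = ∑ i ∈ l.support, resM M hm (pullSec m (A i • i)) :=
    (congrArg (resM M hm) (map_sum (((Scheme.Modules.pullbackPushforwardAdjunction m).unit.app L).app V).hom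
      (fun i => A i • i) l.support)).trans (map_sum _ _ _)
  have hg : resM M hm (pullSec m g) = φ (π.app U₀ R) • h := by
    rw [hadd, Finset.sum_congr rfl fun i hi => show resM M hm (pullSec m (A i • i)) =
      (φ (π.app U₀ R) * (l i * c i)) • h by rw [hres, ← hA i hi, ← hc, smul_smul]; ring_nf,
      ← Finset.sum_smul, ← Finset.mul_sum]
    have hl' : ∑ i ∈ l.support, l i * c i = 1 := hl
    rw [hl', mul_one]
  have hRx : IsUnit (X.presheaf.germ U₀ x hx R) := by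
    rw [map_prod, IsUnit.prod_iff]
    exact fun i _ => hr i
  have hRu : IsUnit (φ (π.app U₀ R)) := by
    refine RingedSpace.isUnit_of_isUnit_germ P.toRingedSpace ⊤ _ fun z _ => ?_
    have hz : m z ∈ V := hm (trivial : z ∈ (⊤ : P.Opens))
    have h1 : IsUnit (X.presheaf.germ U₀ (π (m z)) hz R) := by
      rw [← Scheme.mem_basicOpen]
      exact (hmπ z).mem_open (X.basicOpen R).2 ((Scheme.mem_basicOpen _ _ _ hx).2 hRx)
    have h2 : IsUnit (P.presheaf.germ (m ⁻¹ᵁ V) z hz (m.app V (π.app U₀ R))) := by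
      rw [← Scheme.Hom.germ_stalkMap_apply m V z hz, ← Scheme.Hom.germ_stalkMap_apply π U₀ (m z) hz]
      exact (h1.map _).map _
    show IsUnit (P.presheaf.germ ⊤ z trivial (P.presheaf.map (homOfLE hm).op (m.app V (π.app U₀ R))))
    rw [TopCat.Presheaf.germ_res_apply]
    exact h2
  have hgenP : IsGen M ⊤ (resM M hm (pullSec m g)) := by
    rw [hg]
    obtain ⟨u, hu⟩ := hRu
    rw [← hu]
    exact hh.smul_unit u
  let W : Set 𝔸(n; X) := {v | ∃ (O' : 𝔸(n; X).Opens) (h : O' ≤ V), v ∈ O' ∧ IsGen L O' (resM L h g)}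
  have hWopen : IsOpen W := isOpen_iff_forall_mem_open.2 fun v ⟨O', h', hv, hO'⟩ =>
    ⟨O', fun w hw => ⟨O', h', hw, hO'⟩, O'.2, hv⟩
  have hfib : ∀ v : 𝔸(n; X), v ∈ V → π v ⤳ x → v ∈ W := by
    intro v hv hvx
    obtain ⟨y, hy⟩ := (X.range_fromSpecStalk (x := x)).ge (show π v ∈ {y | y ⤳ x} from hvx)
    obtain ⟨w, hw, -⟩ := Scheme.Pullback.exists_preimage_pullback (f := π) (g := X.fromSpecStalk x) v y hy.symm
    obtain ⟨z, rfl⟩ : ∃ z : P, m z = v := by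
      refine ⟨(AffineSpace.isPullback_map (n := n) (X.fromSpecStalk x)).isoPullback.inv w, ?_⟩
      rw [← hw]
      exact congrArg (fun f : _ ⟶ 𝔸(n; X) => f w)
        ((AffineSpace.isPullback_map (n := n) (X.fromSpecStalk x)).isoPullback_inv_fst)
    obtain ⟨W₁, hzW₁, s, hs⟩ := exists_isGen hL (m z)
    have hle : W₁ ⊓ V ≤ W₁ := inf_le_left
    have hleV : W₁ ⊓ V ≤ V := inf_le_right
    have hs' := hs.restrict hle
    let d := hs'.coef le_rfl (resM L hleV g)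
    have hd : d • resM L hle s = resM L hleV g := by
      have := hs'.coef_spec le_rfl (resM L hleV g)
      rwa [resM_self] at this
    have hp : IsGen M (m ⁻¹ᵁ (W₁ ⊓ V)) (pullSec m (resM L hleV g)) := by
      have := hgenP.restrict (le_top : m ⁻¹ᵁ (W₁ ⊓ V) ≤ ⊤)
      rw [resM_resM] at this
      rwa [← resM_pullSec m hleV]
    have hu : IsUnit (m.app (W₁ ⊓ V) d) := by
      have h3 := (isGen_pullSec m hs' hL).isUnit_coef hp
      rwa [IsGen.coef_eq (r := m.app (W₁ ⊓ V) d) _ _ (by rw [resM_self, ← pullSec_smul, hd])] at h3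
    have hbz : z ∈ m ⁻¹ᵁ 𝔸(n; X).basicOpen d := by
      rw [Scheme.preimage_basicOpen, Scheme.basicOpen_of_isUnit _ hu]
      exact ⟨hzW₁, hv⟩
    refine ⟨𝔸(n; X).basicOpen d, (Scheme.basicOpen_le _ d).trans hleV, hbz, ?_⟩
    obtain ⟨w', hw'⟩ : IsUnit ((𝔸(n; X).presheaf.map (homOfLE (𝔸(n; X).basicOpen_le d)).op d) :
        Γ(𝔸(n; X), 𝔸(n; X).basicOpen d)) :=
      RingedSpace.isUnit_res_basicOpen 𝔸(n; X).toRingedSpace d
    have h4 : resM L ((Scheme.basicOpen_le _ d).trans hleV) g =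
        (w' : Γ(𝔸(n; X), 𝔸(n; X).basicOpen d)) • resM L (Scheme.basicOpen_le _ d) (resM L hle s) := by
      rw [← resM_resM L hleV (Scheme.basicOpen_le _ d), ← hd, resM_smul]
      exact congrArg (· • resM L (Scheme.basicOpen_le _ d) (resM L hle s)) hw'.symm
    rw [h4]
    exact (hs'.restrict (Scheme.basicOpen_le _ d)).smul_unit w'
  let A' := Γ(𝔸(n; X), V)
  obtain ⟨J, hJ⟩ := (PrimeSpectrum.isClosed_iff_zeroLocus_ideal _).1
    ((hWopen.preimage hV.fromSpec.continuous).isClosed_compl)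
  obtain ⟨r', hr'x, hr'J⟩ : ∃ r' : Γ(X, U₀), IsUnit (X.presheaf.germ U₀ x hx r') ∧ π.app U₀ r' ∈ J := by
    by_contra hne
    push_neg at hne
    let S : Submonoid A' :=
      ((IsUnit.submonoid (X.presheaf.stalk x)).comap (X.presheaf.germ U₀ x hx).hom).map (π.app U₀).hom
    have hdisj : Disjoint (J : Set A') (S : Set A') := by
      rw [Set.disjoint_right]
      rintro _ ⟨r', hr', rfl⟩
      exact hne r' hr'
    obtain ⟨Q, hQ, hJQ, hQS⟩ := Ideal.exists_le_prime_disjoint J S hdisj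
    let q : PrimeSpectrum A' := ⟨Q, hQ⟩
    have hqV : hV.fromSpec q ∈ V := hV.range_fromSpec.le ⟨q, rfl⟩
    have hq : π (hV.fromSpec q) ⤳ x := by
      refine specializes_iff_forall_open.2 fun T hT hxT => ?_
      obtain ⟨f, hfT, hxf⟩ := hU₀.exists_basicOpen_le (V := ⟨T, hT⟩) ⟨x, hxT⟩ hx
      refine hfT ?_
      have hf : π.app U₀ f ∉ Q := fun hf => Set.disjoint_left.1 hQS hf
        ⟨f, (Scheme.mem_basicOpen _ _ _ hx).1 hxf, rfl⟩
      have h5 : q ∈ hV.fromSpec ⁻¹ᵁ (π ⁻¹ᵁ X.basicOpen f) := by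
        rw [Scheme.preimage_basicOpen π f, hV.fromSpec_preimage_basicOpen]
        exact hf
      exact h5
    have : q ∈ PrimeSpectrum.zeroLocus (J : Set A') := hJQ
    rw [← hJ] at this
    exact this (hfib _ hqV hq)
  refine ⟨X.basicOpen r', (Scheme.mem_basicOpen _ _ _ hx).2 hr'x, ?_⟩
  have hle : π ⁻¹ᵁ X.basicOpen r' ≤ V := ((Opens.map π.base).map (homOfLE (X.basicOpen_le r'))).le
  refine ⟨resM L hle g, ?_⟩
  have hin : ∀ v : (π ⁻¹ᵁ X.basicOpen r' : 𝔸(n; X).Opens), v.1 ∈ W := by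
    rintro ⟨v, hv⟩
    obtain ⟨q, rfl⟩ := hV.range_fromSpec.ge (hle hv)
    by_contra hq
    have hqJ : q ∈ PrimeSpectrum.zeroLocus (J : Set A') := hJ ▸ hq
    have h6 : q ∈ hV.fromSpec ⁻¹ᵁ (π ⁻¹ᵁ X.basicOpen r') := hv
    rw [Scheme.preimage_basicOpen π r', hV.fromSpec_preimage_basicOpen] at h6
    exact h6 (hqJ hr'J)
  choose O' hO'V hvO' hO' using hin
  refine isGen_of_cover (fun v => π ⁻¹ᵁ X.basicOpen r' ⊓ O' v) (fun v => inf_le_left)
    (fun v hv => Opens.mem_iSup.2 ⟨⟨v, hv⟩, hv, hvO' ⟨v, hv⟩⟩) fun v => ?_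
  have := (hO' v).restrict (inf_le_right : π ⁻¹ᵁ X.basicOpen r' ⊓ O' v ≤ O' v)
  rw [resM_resM] at this
  rwa [resM_resM]

end Groth.Agent.PicAff27
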